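import Cfsg.Agent.H208.E83.Ord11

/-!
# `E₈(3)`: elements of order 11, the form of box C (S5925; helper208)
-/

set_option autoImplicit false

namespace Cfsg.Agent.H208.E83

open Cfsg Cfsg.Lie

/-- hypothesis `hB2` of box C -/
def ConjTo {G : Type*} [Group G] (y : G) : Prop := ∀ x : G, x ^ 11 = 1 → x ≠ 1 → ∃ g : G, g * x * g⁻¹ = y

theorem conjTo_of {G : Type*} [Group G] (h : ∀ x y : G, orderOf x = 11 → orderOf y = 11 → IsConj x y) {y : G}
    (hy : y ^ 11 = 1) (hy1 : y ≠ 1) : ConjTo y := fun _ hx hx1 =>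
  isConj_iff.1 (h _ _ (orderOf_eq_prime hx hx1) (orderOf_eq_prime hy hy1))

theorem all11 : ∀ x y : ↥(chevE8.group (ZMod 3)), orderOf x = 11 → orderOf y = 11 → IsConj x y :=
  fun _ _ => isConj_of_order11

theorem hB2_of {G : Type*} [Group G] (h : ∀ x y : G, orderOf x = 11 → orderOf y = 11 → IsConj x y)
    {A : Type*} [Group A] (φ : A →* G) {m : A} (hm : m ^ 11 = 1) (hm1 : φ m ≠ 1) :
    ∀ x : G, x ^ 11 = 1 → x ≠ 1 → ∃ g : G, g * x * g⁻¹ = φ m :=
  conjTo_of h (by rw [← map_pow, hm, map_one]) hm1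

end Cfsg.Agent.H208.E83
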