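import Cfsg.Agent.H208.XR.E8Final

/-!
# `E₈(3)`: the elements of order 11 are conjugate (S5925, box B2; helper208)

The torus model modulo `11²` (`H208/XR/Frame`), `|E₈(3)|` is not divisible by `11⁵`; the elements of order 11 of the Sylow
subgroup `≅ (ℤ/121)²` are `𝔽₁₁²`, two reflections of order 5 act transitively on the 120 nonzero vectors.
-/

set_option autoImplicit false
set_option linter.unusedSectionVars false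

namespace Cfsg.Agent.H208.E83

open CoxeterSystem Cfsg Cfsg.Lie Cfsg.Lie.ChevalleyDatum
open Cfsg.Agent.ChevalleyStructure Cfsg.Agent.ChevalleyStructure.Elts Cfsg.Agent.ChevalleyStructure.CoxeterGeom
  Cfsg.Agent.ChevalleyStructure.CoxeterGeomTypes Cfsg.Agent.ChevalleyStructure.NPerm
open Cfsg.Agent.Tits.Roots Cfsg.Agent.Tits.Core Cfsg.Agent.Nodes Cfsg.Agent.Nodes.Reps Cfsg.Agent.Nodes.BNOf
  Cfsg.Agent.Nodes.RGDChev Cfsg.Agent.Nodes.Bruhat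
open Cfsg.Agent.H129.TorusChar Cfsg.Agent.H129.WData Cfsg.Agent.H210.EL Cfsg.Agent.H440.TD4
open Cfsg.Agent.H942.E8Tab
open Cfsg.Agent.H682.KB
open Cfsg.Agent.H208.XR

universe u v

section model

open scoped Pointwise

variable {D : ChevalleyDatum} {l : ℕ} {M : CoxeterMatrix (Fin l)} {hp : IsType D l M} {p a Q : ℕ} [hpp : Fact p.Prime]
  {g : (Fin l → ℤ) ≃+ (Fin l → ℤ)} {w : M.Group} {G : Type v} [Group G] {X : (Fin l → ZMod (p ^ a)) → G}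

/-- functionals killed by `p` -/
theorem exists_up (ha : a ≠ 0) {c : Fin l → ZMod (p ^ a)} (h : ((p : ℕ) : ZMod (p ^ a)) • c = 0) :
    ∃ c', up p a c' = c := by
  have hNz : NeZero (p ^ a) := ⟨pow_ne_zero _ hpp.out.ne_zero⟩
  have hNz1 : NeZero (p ^ 1) := ⟨pow_ne_zero _ hpp.out.ne_zero⟩
  have h1 : ∀ n, p ^ (a - 1) ∣ (c n).val := by
    intro n
    have h2 := congrFun h n
    rw [Pi.smul_apply, smul_eq_mul, Pi.zero_apply] at h2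
    have h3 : ((p * (c n).val : ℕ) : ZMod (p ^ a)) = 0 := by
      rw [Nat.cast_mul, ZMod.natCast_zmod_val]
      exact h2
    have h4 := (ZMod.natCast_eq_zero_iff _ _).1 h3
    have h5 : p ^ a = p * p ^ (a - 1) := by
      rw [← pow_succ', Nat.sub_add_cancel (Nat.one_le_iff_ne_zero.2 ha)]
    exact Nat.dvd_of_mul_dvd_mul_left hpp.out.pos (h5.symm.dvd.trans h4)
  choose k hk using h1
  refine ⟨fun n => (k n : ZMod (p ^ 1)), ?_⟩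
  funext n
  have h6 : ((p ^ (a - 1) : ℕ) : ZMod (p ^ a)) * ((k n : ℕ) : ZMod (p ^ a)) = c n := by
    rw [← Nat.cast_mul, ← hk, ZMod.natCast_zmod_val]
  show ((p ^ (a - 1) : ℕ) : ZMod (p ^ a)) * ((((k n : ZMod (p ^ 1)).val : ℕ) : ℤ) : ZMod (p ^ a)) = c n
  rw [← h6, ← sub_eq_zero]
  have h7 := (pow_mul_eq_zero (p := p) ha (((k n : ZMod (p ^ 1)).val : ℤ) - (k n : ℤ))).2 (by
    push_cast
    rw [ZMod.natCast_zmod_val, sub_self])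
  rw [← h7]
  push_cast
  ring

theorem up_inj (ha : a ≠ 0) {c c' : Fin l → ZMod (p ^ 1)} (h : up p a c = up p a c') : c = c' :=
  lam_ext fun x => (lam_up_eq_iff ha c c' x x).1 (by rw [h])

/-- the elements of order `p` -/
theorem exists_conj_up [Finite G] (ha : a ≠ 0) (H : ModelN hp (p ^ a) Q g w X) {P : Sylow p G}
    (hP : (P : Subgroup G) = toSub H) {x : G} (hx : orderOf x = p) :
    ∃ c : Fin l → ZMod (p ^ 1), c ∈ Lam hp (p ^ 1) Q g w ∧ c ≠ 0 ∧ IsConj x (X (up p a c)) := by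
  have h1 : IsPGroup p ↥(Subgroup.zpowers x) := IsPGroup.of_card (n := 1) (by rw [Nat.card_zpowers, hx, pow_one])
  obtain ⟨R, hR⟩ := h1.exists_le_sylow
  obtain ⟨h, hh⟩ := MulAction.exists_smul_eq G R P
  have h2 : h * x * h⁻¹ ∈ toSub H := by
    rw [← hP, ← hh]
    have h3 : MulAut.conj h • x ∈ MulAut.conj h • (R : Subgroup G) :=
      Subgroup.smul_mem_pointwise_smul _ _ _ (hR (Subgroup.mem_zpowers x))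
    exact h3
  obtain ⟨c, hc, hcx⟩ := h2
  have hord : orderOf (h * x * h⁻¹) = p := by
    rw [← hx]
    exact orderOf_injective (MulAut.conj h).toMonoidHom (MulAut.conj h).injective x
  have h4 : ((p : ℕ) : ZMod (p ^ a)) • c = 0 := by
    apply H.inj _ (Lam.smul hp _ hc)
    rw [X_nsmul H hc, hcx]
    have := pow_orderOf_eq_one (h * x * h⁻¹)
    rwa [hord] at this
  obtain ⟨c', rfl⟩ := exists_up ha h4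
  refine ⟨c', (up_mem_iff ha).1 hc, ?_, isConj_iff.2 ⟨h, hcx.symm⟩⟩
  rintro rfl
  have h5 : X (up p a (0 : Fin l → ZMod (p ^ 1))) = 1 := X_zero (H.down ha)
  rw [h5] at hcx
  rw [← hcx, orderOf_one] at hord
  exact hpp.out.one_lt.ne hord

/-- the action -/
theorem conj_of_act (ha : a ≠ 0) (H : ModelN hp (p ^ a) Q g w X) {c c' : Fin l → ZMod (p ^ 1)}
    (hc : c ∈ Lam hp (p ^ 1) Q g w) (hc' : c' ∈ Lam hp (p ^ 1) Q g w) {v : M.Group} (hv : v ∈ Cth hp g w)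
    (h : ∀ x, lam c' (rep M.toCoxeterSystem hp.isCartan v x) = lam c x) : IsConj (X (up p a c)) (X (up p a c')) := by
  obtain ⟨m, hm⟩ := (H.down ha).act v hv
  exact isConj_iff.2 ⟨m, hm c hc c' hc' h⟩

end model

instance : Fact (Nat.Prime 11) := ⟨by norm_num⟩

/-- a reflection of order 5 -/
def cv2 : List (Fin 8 × Mat 8) := [
  (0, mt [[0, -1, -1, -2, -1, -1, -1, -1], [1, 1, 1, 1, 0, 0, 0, 0], [0, 1, 1, 1, 1, 1, 1, 1], [0, 0, 0, 1, 1, 1, 0, 0], [-1, -1, -1, -2, -2, -2, -1, -1], [1, 1, 1, 2, 2, 1, 1, 1], [0, 0, 0, 0, 0, 1, 1, 0], [0, -1, 0, -1, -1, -1, -1, 0]]),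
  (1, mt [[-1, -1, -1, -2, -1, -1, -1, -1], [0, 1, 1, 1, 0, 0, 0, 0], [1, 1, 1, 1, 1, 1, 1, 1], [0, 0, 0, 1, 1, 1, 0, 0], [0, -1, -1, -2, -2, -2, -1, -1], [0, 1, 1, 2, 2, 1, 1, 1], [0, 0, 0, 0, 0, 1, 1, 0], [0, -1, 0, -1, -1, -1, -1, 0]]),
  (3, mt [[-1, -1, -1, -2, -1, -1, -1, -1], [0, 0, 1, 1, 0, 0, 0, 0], [1, 0, 1, 1, 1, 1, 1, 1], [0, 1, 0, 1, 1, 1, 0, 0], [0, -1, -1, -2, -2, -2, -1, -1], [0, 1, 1, 2, 2, 1, 1, 1], [0, 0, 0, 0, 0, 1, 1, 0], [0, 0, 0, -1, -1, -1, -1, 0]]),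
  (1, mt [[-1, -1, -1, -1, -1, -1, -1, -1], [0, 0, 1, 0, 0, 0, 0, 0], [1, 0, 1, 1, 1, 1, 1, 1], [0, 1, 0, 1, 1, 1, 0, 0], [0, -1, -1, -2, -2, -2, -1, -1], [0, 1, 1, 2, 2, 1, 1, 1], [0, 0, 0, 0, 0, 1, 1, 0], [0, 0, 0, 0, -1, -1, -1, 0]]),
  (4, mt [[-1, 0, -1, -1, -1, -1, -1, -1], [0, 0, 1, 0, 0, 0, 0, 0], [1, 1, 1, 1, 1, 1, 1, 1], [0, 0, 0, 1, 1, 1, 0, 0], [0, -1, -1, -2, -2, -2, -1, -1], [0, 1, 1, 2, 2, 1, 1, 1], [0, 0, 0, 0, 0, 1, 1, 0], [0, 0, 0, 0, -1, -1, -1, 0]]),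
  (5, mt [[-1, 0, -1, -1, -1, -1, -1, -1], [0, 0, 1, 0, 0, 0, 0, 0], [1, 1, 1, 1, 1, 1, 1, 1], [0, 0, 0, 1, 1, 1, 0, 0], [0, -1, -1, -2, -2, -2, -1, -1], [0, 1, 1, 2, 1, 1, 1, 1], [0, 0, 0, 0, 1, 1, 1, 0], [0, 0, 0, 0, 0, -1, -1, 0]]),
  (4, mt [[-1, 0, -1, -1, -1, -1, -1, -1], [0, 0, 1, 0, 0, 0, 0, 0], [1, 1, 1, 1, 1, 1, 1, 1], [0, 0, 0, 1, 1, 0, 0, 0], [0, -1, -1, -2, -2, -1, -1, -1], [0, 1, 1, 2, 1, 1, 1, 1], [0, 0, 0, 0, 1, 1, 1, 0], [0, 0, 0, 0, 0, 0, -1, 0]]),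
  (6, mt [[-1, 0, -1, -1, -1, -1, -1, -1], [0, 0, 1, 0, 0, 0, 0, 0], [1, 1, 1, 1, 1, 1, 1, 1], [0, 0, 0, 1, 0, 0, 0, 0], [0, -1, -1, -2, -1, -1, -1, -1], [0, 1, 1, 2, 2, 1, 1, 1], [0, 0, 0, 0, 0, 1, 1, 0], [0, 0, 0, 0, 0, 0, -1, 0]]),
  (7, mt [[-1, 0, -1, -1, -1, -1, -1, -1], [0, 0, 1, 0, 0, 0, 0, 0], [1, 1, 1, 1, 1, 1, 1, 1], [0, 0, 0, 1, 0, 0, 0, 0], [0, -1, -1, -2, -1, -1, -1, -1], [0, 1, 1, 2, 2, 1, 1, 1], [0, 0, 0, 0, 0, 1, 0, 0], [0, 0, 0, 0, 0, 0, 1, 0]]),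
  (6, mt [[-1, 0, -1, -1, -1, -1, -1, 0], [0, 0, 1, 0, 0, 0, 0, 0], [1, 1, 1, 1, 1, 1, 1, 0], [0, 0, 0, 1, 0, 0, 0, 0], [0, -1, -1, -2, -1, -1, -1, 0], [0, 1, 1, 2, 2, 1, 1, 0], [0, 0, 0, 0, 0, 1, 0, 0], [0, 0, 0, 0, 0, 0, 1, 1]]),
  (5, mt [[-1, 0, -1, -1, -1, -1, 0, 0], [0, 0, 1, 0, 0, 0, 0, 0], [1, 1, 1, 1, 1, 1, 0, 0], [0, 0, 0, 1, 0, 0, 0, 0], [0, -1, -1, -2, -1, -1, 0, 0], [0, 1, 1, 2, 2, 1, 0, 0], [0, 0, 0, 0, 0, 1, 1, 0], [0, 0, 0, 0, 0, 0, 0, 1]]),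
  (4, mt [[-1, 0, -1, -1, -1, 0, 0, 0], [0, 0, 1, 0, 0, 0, 0, 0], [1, 1, 1, 1, 1, 0, 0, 0], [0, 0, 0, 1, 0, 0, 0, 0], [0, -1, -1, -2, -1, 0, 0, 0], [0, 1, 1, 2, 2, 1, 0, 0], [0, 0, 0, 0, 0, 0, 1, 0], [0, 0, 0, 0, 0, 0, 0, 1]]),
  (3, mt [[-1, 0, -1, -1, 0, 0, 0, 0], [0, 0, 1, 0, 0, 0, 0, 0], [1, 1, 1, 1, 0, 0, 0, 0], [0, 0, 0, 1, 1, 0, 0, 0], [0, -1, -1, -2, -1, 0, 0, 0], [0, 1, 1, 2, 1, 1, 0, 0], [0, 0, 0, 0, 0, 0, 1, 0], [0, 0, 0, 0, 0, 0, 0, 1]]),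
  (1, mt [[-1, 0, -1, 0, 0, 0, 0, 0], [0, 0, 1, 1, 0, 0, 0, 0], [1, 1, 1, 1, 0, 0, 0, 0], [0, 0, 0, 0, 1, 0, 0, 0], [0, -1, -1, -1, -1, 0, 0, 0], [0, 1, 1, 1, 1, 1, 0, 0], [0, 0, 0, 0, 0, 0, 1, 0], [0, 0, 0, 0, 0, 0, 0, 1]]),
  (2, mt [[-1, 0, -1, 0, 0, 0, 0, 0], [0, 1, 1, 1, 0, 0, 0, 0], [1, 0, 1, 1, 0, 0, 0, 0], [0, 0, 0, 0, 1, 0, 0, 0], [0, 0, -1, -1, -1, 0, 0, 0], [0, 0, 1, 1, 1, 1, 0, 0], [0, 0, 0, 0, 0, 0, 1, 0], [0, 0, 0, 0, 0, 0, 0, 1]]),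
  (0, mt [[-1, 0, 0, 0, 0, 0, 0, 0], [0, 1, 0, 1, 0, 0, 0, 0], [1, 0, 1, 1, 0, 0, 0, 0], [0, 0, 0, 0, 1, 0, 0, 0], [0, 0, 0, -1, -1, 0, 0, 0], [0, 0, 0, 1, 1, 1, 0, 0], [0, 0, 0, 0, 0, 0, 1, 0], [0, 0, 0, 0, 0, 0, 0, 1]]),
  (3, mt [[1, 0, 0, 0, 0, 0, 0, 0], [0, 1, 0, 1, 0, 0, 0, 0], [0, 0, 1, 1, 0, 0, 0, 0], [0, 0, 0, 0, 1, 0, 0, 0], [0, 0, 0, -1, -1, 0, 0, 0], [0, 0, 0, 1, 1, 1, 0, 0], [0, 0, 0, 0, 0, 0, 1, 0], [0, 0, 0, 0, 0, 0, 0, 1]]),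
  (4, mt [[1, 0, 0, 0, 0, 0, 0, 0], [0, 1, 0, 0, 0, 0, 0, 0], [0, 0, 1, 0, 0, 0, 0, 0], [0, 0, 0, 1, 1, 0, 0, 0], [0, 0, 0, 0, -1, 0, 0, 0], [0, 0, 0, 0, 1, 1, 0, 0], [0, 0, 0, 0, 0, 0, 1, 0], [0, 0, 0, 0, 0, 0, 0, 1]])]

theorem cv2_ok : ChainOK Am cv2 := by decide +kernel

theorem comm2 : CommOK (hd cv2) (hd D5.cw) := by decide +kernel

/-- the eigenvectors modulo 11 -/
def W1 : Fin 8 → ZMod (11 ^ 1) := ![7, 3, 1, 9, 6, 1, 6, 10]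

def W2 : Fin 8 → ZMod (11 ^ 1) := ![8, 9, 1, 3, 1, 2, 10, 1]

/-- the two reflections -/
def stp (b : Fin 2) (z : ZMod (11 ^ 1) × ZMod (11 ^ 1)) : ZMod (11 ^ 1) × ZMod (11 ^ 1) :=
  if b = 0 then (1 * z.1 + 0 * z.2, 3 * z.1 + 4 * z.2) else (4 * z.1 + 6 * z.2, 0 * z.1 + 1 * z.2)

/-- the vector -/
def CC (z : ZMod (11 ^ 1) × ZMod (11 ^ 1)) : Fin 8 → ZMod (11 ^ 1) := fun n => z.1 * W1 n + z.2 * W2 n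

/-- words -/
def words : List (List (Fin 2)) := [
  [], [0, 1, 0], [1, 1, 1, 1, 0, 0, 0, 0], [1, 0], [0, 0, 1, 0], [0, 0, 0, 1, 0], [1, 1, 0, 0, 1, 0, 0, 0], [1, 0, 0, 0, 1, 0, 0], [0, 1, 1, 1, 1, 0, 0, 0, 0], [0, 0, 0, 0, 1, 0], [1, 0, 0, 1, 1, 0],
  [], [1, 0, 0, 0, 0, 1, 1, 0], [0, 0, 0, 0], [0], [0, 0], [0, 1, 1, 1, 0, 0, 0, 1, 1, 1], [1, 1, 1, 0, 0, 0, 1, 1, 1], [1, 0, 0, 0, 0, 1, 1, 1], [0, 0, 0], [1, 1, 1, 0, 0, 0, 0, 1, 0], [1, 1, 0, 0, 0, 1],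
  [1, 0, 0, 1, 0, 0], [0, 0, 1, 1, 1, 0], [0, 0, 0, 0, 1, 1, 1, 0], [1, 1, 1, 0], [1, 0, 0, 1, 0], [1, 0, 0, 1], [1, 0, 0, 1, 0, 0, 0], [0, 1, 1, 1, 0], [1, 1, 1, 1, 0, 0, 0], [1, 1, 1, 0, 0, 1, 1], [0, 0, 0, 1, 1, 1, 0],
  [1, 1, 1, 1], [0, 0, 1, 1, 1, 1], [0, 0, 0, 1, 1, 1, 1], [1, 1, 0, 0, 1, 1, 1], [0, 1, 1, 1, 0, 0, 0, 1, 1], [1, 1, 1, 0, 0, 0, 1, 0], [0, 0, 0, 0, 1, 1, 1, 1], [1, 1, 1, 0, 0, 0, 1, 1], [1, 1, 0, 0, 0], [0, 1, 1, 1, 1], [1, 0, 0, 0, 0, 1, 1],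
  [1], [0, 1], [0, 1, 1, 1, 1, 0], [1, 1, 1, 1, 0], [1, 1, 0, 0], [0, 0, 1], [0, 1, 1, 0, 0], [1, 1, 0, 0, 0, 1, 1], [0, 0, 0, 0, 1], [0, 0, 1, 1, 1, 1, 0], [0, 0, 0, 1],
  [1, 1], [0, 1, 0, 0, 0, 0], [1, 0, 0, 0, 0], [0, 1, 1, 1, 0, 0, 0], [0, 1, 1], [1, 1, 0, 0, 1], [1, 1, 0, 0, 0, 1, 1, 1], [0, 0, 0, 1, 1], [1, 1, 1, 0, 0, 0], [0, 0, 1, 1], [0, 0, 0, 0, 1, 1],
  [0, 0, 1, 0, 0], [0, 1, 0, 0], [0, 0, 0, 0, 1, 0, 0], [0, 1, 1, 0, 0, 0, 0, 1, 1], [1, 0, 0], [1, 1, 1, 0, 0, 1], [1, 0, 0, 0, 1, 1, 1], [0, 0, 0, 1, 0, 0], [0, 0, 1, 1, 0, 0, 0, 0, 1, 1], [1, 1, 0, 0, 0, 0, 1, 0], [1, 1, 0, 0, 0, 0, 1, 1],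
  [0, 1, 1, 0], [0, 0, 0, 0, 1, 1, 0], [0, 0, 1, 1, 0, 0, 0, 0, 1], [1, 1, 0], [1, 1, 1, 0, 0], [1, 1, 0, 0, 0, 1, 0], [0, 0, 0, 1, 1, 0], [1, 0, 0, 0, 1, 1], [1, 1, 0, 0, 0, 0, 1], [0, 1, 1, 0, 0, 0, 0, 1], [0, 0, 1, 1, 0],
  [1, 1, 0, 0, 1, 0, 0], [0, 1, 0, 0, 0], [1, 1, 1, 0, 0, 0, 0], [1, 1, 1, 0, 0, 1, 1, 1], [1, 1, 1, 1, 0, 0], [1, 0, 0, 0, 1, 0], [0, 0, 1, 0, 0, 0], [0, 1, 1, 1, 1, 0, 0], [1, 0, 0, 0], [1, 0, 0, 1, 1], [0, 1, 1, 1, 0, 0, 0, 0],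
  [1, 1, 1], [0, 1, 1, 1, 0, 0, 0, 1], [1, 0, 0, 0, 0, 1, 1, 1, 0], [0, 0, 1, 1, 1], [1, 1, 1, 0, 0, 1, 0], [0, 1, 1, 1], [0, 0, 0, 1, 1, 1], [0, 0, 0, 0, 1, 1, 1], [1, 0, 0, 0, 0, 1], [1, 1, 0, 0, 1, 1], [1, 1, 1, 0, 0, 0, 1],
  [1, 1, 1, 0, 0, 1, 0, 0], [1, 1, 0, 0, 0, 0, 1, 1, 0], [1, 1, 0, 0, 0, 0], [1, 0, 0, 1, 1, 1], [1, 1, 0, 0, 1, 0], [0, 1, 1, 0, 0, 0, 0], [0, 0, 1, 1, 0, 0, 0, 0], [0, 1, 1, 1, 0, 0, 0, 0, 1], [1, 1, 1, 0, 0, 0, 0, 1], [1, 0, 0, 0, 0, 1, 0], [1, 0, 0, 0, 1]]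

theorem trans : ∀ z : ZMod (11 ^ 1) × ZMod (11 ^ 1), z = 0 ∨
    (words.getD (11 * z.1.val + z.2.val) []).foldr stp (1, 0) = z := by decide +kernel

theorem act1 : ∀ (z : ZMod (11 ^ 1) × ZMod (11 ^ 1)) (j : Fin 8),
    ∑ n, CC (stp 0 z) n * (hd D5.cv j n : ZMod (11 ^ 1)) = CC z j := by decide +kernel

theorem act2 : ∀ (z : ZMod (11 ^ 1) × ZMod (11 ^ 1)) (j : Fin 8),
    ∑ n, CC (stp 1 z) n * (hd cv2 j n : ZMod (11 ^ 1)) = CC z j := by decide +kernel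

theorem vv1 : ∀ n, (vv (3 : ZMod (11 ^ 1)) XR.D5.V₁ : Fin 8 → ZMod (11 ^ 1)) n = W1 n := by decide +kernel

theorem vv2 : ∀ n, (vv (3 : ZMod (11 ^ 1)) XR.D5.V₂ : Fin 8 → ZMod (11 ^ 1)) n = W2 n := by decide +kernel

theorem order3 : orderOf ((Fintype.card (ZMod 3) : ℕ) : ZMod 11) = 5 := by
  have : Fact (Nat.Prime 5) := ⟨by norm_num⟩
  rw [ZMod.card]
  exact orderOf_eq_prime (by decide) (by decide)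

theorem padic : padicValNat 11 (Fintype.card (ZMod 3) ^ 5 - 1) = 2 := by
  rw [ZMod.card, show 3 ^ 5 - 1 = 11 ^ 2 * 2 from by norm_num, padicValNat.mul (by norm_num) (by norm_num),
    padicValNat.prime_pow, padicValNat.eq_zero_of_not_dvd (by norm_num)]

theorem card_not : ¬ 11 ^ (2 * 2 + 1) ∣ Nat.card ↥(chevE8.group (ZMod 3)) := by
  have h := card_E8_not_dvd (p := 11) (F := ZMod 3) (by norm_num) (Or.inl order3) (by rw [order3])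
  rwa [padic] at h

/-- the points of the eigenspace -/
theorem cc_eq (z : ZMod (11 ^ 1) × ZMod (11 ^ 1)) : cc (3 : ZMod (11 ^ 1)) XR.D5.V₁ XR.D5.V₂ z = CC z := by
  funext n
  unfold cc CC
  rw [Pi.add_apply, Pi.smul_apply, Pi.smul_apply, vv1, vv2]
  rfl

section conj

variable {X : (Fin 8 → ZMod (11 ^ 2)) → ↥(chevE8.group (ZMod 3))}
  (H : ModelN e8T' (11 ^ 2) 3 (AddEquiv.refl (Fin 8 → ℤ)) (wd D5.cw) X)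

theorem two3 : Two e8T' (AddEquiv.refl (Fin 8 → ℤ)) (wd D5.cw) XR.D5.P XR.D5.V₁ XR.D5.V₂ s₁ (sx 1) :=
  XR.D5.sp.two D5.cw_ok

theorem rel1 : ((3 : ℕ) : ZMod (11 ^ 1)) ^ 4 = ev ((3 : ℕ) : ZMod (11 ^ 1)) XR.D5.P := by decide +kernel

theorem rel2 : ((3 : ℕ) : ZMod (11 ^ 2)) ^ 4 = ev ((3 : ℕ) : ZMod (11 ^ 2)) XR.D5.P := by decide +kernel

theorem CC_mem (z : ZMod (11 ^ 1) × ZMod (11 ^ 1)) :
    CC z ∈ Lam e8T' (11 ^ 1) 3 (AddEquiv.refl (Fin 8 → ℤ)) (wd D5.cw) := by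
  have h := two3.cc_mem (Q := 3) rel1 z
  rw [show ((3 : ℕ) : ZMod (11 ^ 1)) = 3 from rfl, cc_eq] at h
  exact h

theorem lam_CC {cv : List (Fin 8 × Mat 8)} (hok : ChainOK Am cv) {b : Fin 2}
    (h : ∀ (z : ZMod (11 ^ 1) × ZMod (11 ^ 1)) (j : Fin 8),
      ∑ n, CC (stp b z) n * (hd cv j n : ZMod (11 ^ 1)) = CC z j) (z : ZMod (11 ^ 1) × ZMod (11 ^ 1)) (x : Fin 8 → ℤ) :
    lam (CC (stp b z)) (rep CoxeterMatrix.E₈.toCoxeterSystem e8T'.isCartan (wd cv) x) = lam (CC z) x :=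
  ext_sr ((lamHom (CC (stp b z))).comp
      (rep CoxeterMatrix.E₈.toCoxeterSystem e8T'.isCartan (wd cv)).toAddMonoidHom) (lamHom (CC z)) (fun j => by
    show lam (CC (stp b z)) (rep CoxeterMatrix.E₈.toCoxeterSystem e8T'.isCartan (wd cv) (sr j)) = lam (CC z) (sr j)
    rw [lam_sr, chain_rep e8T' CoxeterMatrix.E₈.toCoxeterSystem hA hok j, ← h z j]
    unfold lam
    exact Finset.sum_congr rfl fun n _ => mul_comm _ _) x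

include H in
theorem conj_word (L : List (Fin 2)) : IsConj (X (up 11 2 (CC (1, 0)))) (X (up 11 2 (CC (L.foldr stp (1, 0))))) := by
  induction L with
  | nil => exact IsConj.refl _
  | cons b L ih =>
    refine ih.trans ?_
    rw [List.foldr_cons]
    have h2 : b = 0 ∨ b = 1 := by omega
    rcases h2 with rfl | rfl
    · exact conj_of_act two_ne_zero H (CC_mem _) (CC_mem _) (Cth_of_comm e8T' hA D5.cw_ok D5.cv_ok D5.comm)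
        (lam_CC D5.cv_ok act1 _)
    · exact conj_of_act two_ne_zero H (CC_mem _) (CC_mem _) (Cth_of_comm e8T' hA D5.cw_ok cv2_ok comm2)
        (lam_CC cv2_ok act2 _)

include H in
theorem conj_one {x : ↥(chevE8.group (ZMod 3))} (hx : orderOf x = 11) : IsConj x (X (up 11 2 (CC (1, 0)))) := by
  have T := two3
  obtain ⟨hL, P, hP⟩ := exists_sylow H (T.le_card_Lam rel2) card_not
  obtain ⟨c, hc, hc0, hcx⟩ := exists_conj_up two_ne_zero H hP hx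
  set z : ZMod (11 ^ 1) × ZMod (11 ^ 1) := (lam c (vec chevE8 8 s₁), lam c (vec chevE8 8 (sx 1))) with hz
  have e1 : lam (CC z) (vec chevE8 8 s₁) = z.1 := by
    rw [← cc_eq]
    exact T.cc_s1 _ z
  have e2 : lam (CC z) (vec chevE8 8 (sx 1)) = z.2 := by
    rw [← cc_eq]
    exact T.cc_s2 _ z
  have h1 : c = CC z := by
    apply up_inj (a := 2) two_ne_zero
    refine T.ext rel2 hL ((up_mem_iff two_ne_zero).2 hc) ((up_mem_iff two_ne_zero).2 (CC_mem z)) ?_ ?_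
    · rw [lam_up_eq_iff two_ne_zero, e1]
    · rw [lam_up_eq_iff two_ne_zero, e2]
  rcases trans z with h2 | h2
  · exfalso
    apply hc0
    rw [h1, h2]
    funext n
    show (0 : ZMod (11 ^ 1)) * W1 n + 0 * W2 n = 0
    rw [zero_mul, zero_mul, add_zero]
  · rw [h1, ← h2] at hcx
    exact hcx.trans (conj_word H _).symm

end conj

theorem ne11 : ((11 : ℕ) : ZMod 3) ≠ 0 := by decide +kernel

theorem exists_mod0 {p : ℕ} [Fact p.Prime] {F : Type} [Field F] [Fintype F] (h11 : 11 ≤ p) (hpF : (p : F) ≠ 0) (a : ℕ)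
    (w : CoxeterMatrix.E₈.Group) : ∃ X : (Fin 8 → ZMod (p ^ a)) → ↥(chevE8.group F),
      ModelN e8T' (p ^ a) (Fintype.card F) (AddEquiv.refl (Fin 8 → ℤ)) w X :=
  exists_modelN_untw (a := a) e8T' hpF (not_dvd_W8 h11) invC_E8 w

/-- **The elements of order 11 of `E₈(3)` are conjugate.** -/
theorem isConj_of_order11 {x y : ↥(chevE8.group (ZMod 3))} (hx : orderOf x = 11) (hy : orderOf y = 11) :
    IsConj x y := by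
  obtain ⟨X, H⟩ := exists_mod0 (p := 11) (F := ZMod 3) le_rfl ne11 2 (wd D5.cw)
  rw [ZMod.card] at H
  exact (conj_one H hx).trans (conj_one H hy).symm

end Cfsg.Agent.H208.E83
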